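import Mathlib

/-!
# Algebras of dimension less than the cardinality of the base field (Amitsur)
-/

set_option autoImplicit false
universe u

open Cardinal Polynomial

namespace Groth.Agent.JacBigH7

variable {K : Type u} [Field K]

theorem isAlgebraic_of_rank_lt (F : Type u) [Field F] [Algebra K F] (h : Module.rank K F < #K) :
    Algebra.IsAlgebraic K F := by
  refine ⟨fun t => ?_⟩
  by_contra ht
  have := (Transcendental.linearIndependent_sub_inv ht).cardinal_le_rank
  exact (not_lt.2 this) h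

theorem rank_polynomial_lt {A : Type u} [CommRing A] [Algebra K A] (h : Module.rank K A < #K) (h0 : ℵ₀ < #K) :
    Module.rank K A[X] < #K := by
  let e : A[X] ≃ₗ[K] (ℕ →₀ A) :=
    { (Polynomial.toFinsuppIso A).toAddEquiv.trans AddMonoidAlgebra.coeffAddEquiv with
      map_smul' := fun c p => by ext n; simp [Polynomial.coeff] }
  rw [e.rank_eq, rank_finsupp, Cardinal.mk_eq_aleph0, Cardinal.lift_aleph0, Cardinal.lift_id']
  exact Cardinal.mul_lt_of_lt h0.le h0 (by simpa using h)

theorem isJacobsonRing_of_rank_lt (A : Type u) [CommRing A] [Algebra K A] (h : Module.rank K A < #K) (h0 : ℵ₀ < #K) :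
    IsJacobsonRing A := by
  rw [isJacobsonRing_iff_prime_eq]
  intro P hP
  refine le_antisymm (fun f hf => ?_) Ideal.le_jacobson
  by_contra hfP
  let L := FractionRing (A ⧸ P)
  have hf0 : algebraMap A L f ≠ 0 := by
    rw [IsScalarTower.algebraMap_apply A (A ⧸ P) L, ne_eq, map_eq_zero_iff _ (IsFractionRing.injective (A ⧸ P) L),
      Ideal.Quotient.algebraMap_eq, Ideal.Quotient.eq_zero_iff_mem]
    exact hfP
  let φ : A[X] →ₐ[A] L := Polynomial.aeval (algebraMap A L f)⁻¹
  obtain ⟨M, hM, hle⟩ := Ideal.exists_le_maximal (RingHom.ker φ) (RingHom.ker_ne_top φ)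
  letI : Field (A[X] ⧸ M) := Ideal.Quotient.field M
  have hrk : Module.rank K (A[X] ⧸ M) < #K :=
    lt_of_le_of_lt (LinearMap.rank_le_of_surjective (Ideal.Quotient.mkₐ K M).toLinearMap
      Ideal.Quotient.mk_surjective) (rank_polynomial_lt h h0)
  haveI := isAlgebraic_of_rank_lt _ hrk
  let ψ : A →ₐ[K] (A[X] ⧸ M) := (Ideal.Quotient.mkₐ K M).comp (IsScalarTower.toAlgHom K A A[X])
  haveI : Algebra.IsIntegral K (A[X] ⧸ M) := Algebra.IsAlgebraic.isIntegral
  have hmax : (RingHom.ker ψ).IsMaximal := by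
    refine Ideal.Quotient.maximal_of_isField _ ?_
    let i : (A ⧸ RingHom.ker ψ) →ₐ[K] (A[X] ⧸ M) := Ideal.kerLiftAlg ψ
    have hi : Function.Injective i := Ideal.kerLiftAlg_injective ψ
    haveI : (RingHom.ker ψ).IsPrime := RingHom.ker_isPrime ψ
    haveI : Algebra.IsIntegral K (A ⧸ RingHom.ker ψ) := Algebra.IsIntegral.of_injective i hi
    exact isField_of_isIntegral_of_isField' (Field.toIsField K)
  have hPle : P ≤ RingHom.ker ψ := fun a ha => by
    refine Ideal.Quotient.eq_zero_iff_mem.2 (hle ?_)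
    change φ (C a) = 0
    rw [Polynomial.aeval_C]
    rw [IsScalarTower.algebraMap_apply A (A ⧸ P) L, Ideal.Quotient.algebraMap_eq,
      Ideal.Quotient.eq_zero_iff_mem.2 ha, map_zero]
  have hfk : f ∈ RingHom.ker ψ := (Ideal.mem_sInf.1 hf) ⟨hPle, hmax⟩
  have h1 : C f * X - 1 ∈ M := hle (by
    simp [RingHom.mem_ker, φ, mul_inv_cancel₀ hf0])
  have h2 : C f ∈ M := Ideal.Quotient.eq_zero_iff_mem.1 hfk
  exact hM.ne_top ((Ideal.eq_top_iff_one M).2 (by simpa using M.sub_mem (M.mul_mem_right X h2) h1))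

end Groth.Agent.JacBigH7
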